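import Groth.Agent.Sga5.H841.Count
import Mathlib.Algebra.Category.Grp.Basic
import Mathlib.Algebra.Category.Grp.Preadditive

/-!
# Additive functors on `ℤ/ℓ`-vector spaces are `T(ℤ/ℓ) ⊗ -`
-/

set_option autoImplicit false

universe w v w'

open CategoryTheory
open scoped TensorProduct

namespace Groth.Agent.Sga5.H841.AddTens

open Iface InvLen _root_.Groth.Agent.Sga5.H841.Count

/-- an additive functor, unbundled -/
structure AddFun where
  /-- the groups -/
  obj : AddCommGrpCat.{w} → Type w'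
  /-- the group structures -/
  grp : ∀ A, AddCommGroup (obj A)
  /-- the maps -/
  map : ∀ {A B : AddCommGrpCat.{w}}, (A ⟶ B) → (obj A →+ obj B)
  map_id : ∀ (A : AddCommGrpCat.{w}) (x : obj A), map (𝟙 A) x = x
  map_comp : ∀ {A B C : AddCommGrpCat.{w}} (φ : A ⟶ B) (ψ : B ⟶ C) (x : obj A),
    map (φ ≫ ψ) x = map ψ (map φ x)
  map_add : ∀ {A B : AddCommGrpCat.{w}} (φ ψ : A ⟶ B) (x : obj A),
    map (φ + ψ) x = map φ x + map ψ x

attribute [instance] AddFun.grp

section

variable (T : AddFun.{w, w'}) {ℓ : ℕ}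

theorem map_zero' {A B : AddCommGrpCat.{w}} (x : T.obj A) : T.map (0 : A ⟶ B) x = 0 := by
  have h := T.map_add (0 : A ⟶ B) 0 x
  rw [add_zero] at h
  exact left_eq_add.1 h

theorem map_sum' {A B : AddCommGrpCat.{w}} {ι : Type*} (s : Finset ι) (φ : ι → (A ⟶ B))
    (x : T.obj A) : T.map (∑ i ∈ s, φ i) x = ∑ i ∈ s, T.map (φ i) x := by
  classical
  induction s using Finset.induction with
  | empty => rw [Finset.sum_empty, Finset.sum_empty, map_zero']
  | insert a s ha ih => rw [Finset.sum_insert ha, Finset.sum_insert ha, T.map_add, ih]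

/-- `ℤ/ℓ` -/
abbrev Z (ℓ : ℕ) : AddCommGrpCat.{w} := AddCommGrpCat.of (ULift.{w} (ZMod ℓ))

variable {N : Type w} [AddCommGroup N] [Module (ZMod ℓ) N]

/-- the map `c ↦ c • n` -/
def ev (n : N) : Z.{w} ℓ ⟶ AddCommGrpCat.of N :=
  AddCommGrpCat.ofHom
    { toFun := fun c => c.down • n
      map_zero' := zero_smul _ n
      map_add' := fun c d => add_smul _ _ n }

theorem ev_apply (n : N) (c : Z.{w} ℓ) : (ev (ℓ := ℓ) n).hom c = c.down • n := rfl

theorem ev_add (n n' : N) : (ev (n + n') : Z.{w} ℓ ⟶ _) = ev n + ev n' := by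
  refine AddCommGrpCat.hom_ext (AddMonoidHom.ext fun c => ?_)
  exact smul_add c.down n n'

theorem ev_zero : (ev (0 : N) : Z.{w} ℓ ⟶ _) = 0 := by
  refine AddCommGrpCat.hom_ext (AddMonoidHom.ext fun c => ?_)
  exact smul_zero c.down

/-- the canonical map `T(ℤ/ℓ) ⊗ N → T(N)` -/
noncomputable def tau (N : Type w) [AddCommGroup N] [Module (ZMod ℓ) N] :
    T.obj (Z.{w} ℓ) ⊗[ℤ] N →+ T.obj (AddCommGrpCat.of N) :=
  TensorProduct.liftAddHom
    { toFun := fun x =>
        { toFun := fun n => T.map (ev n) x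
          map_zero' := by rw [ev_zero, map_zero']
          map_add' := fun n n' => by rw [ev_add, T.map_add] }
      map_zero' := AddMonoidHom.ext fun n => map_zero (T.map (ev n))
      map_add' := fun x y => AddMonoidHom.ext fun n => map_add (T.map (ev n)) x y }
    (fun r x n => by
      change T.map (ev n) (r • x) = T.map (ev (r • n)) x
      have h1 : ∀ m : ℕ, T.map (ev (m • n)) x = m • T.map (ev n) x := by
        intro m
        induction m with
        | zero => rw [zero_smul, zero_smul, ev_zero, map_zero']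
        | succ m ih => rw [succ_nsmul, succ_nsmul, ev_add, T.map_add, ih]
      have h2 : T.map (ev (-n)) x = - T.map (ev n) x := by
        rw [eq_neg_iff_add_eq_zero, ← T.map_add, ← ev_add, neg_add_cancel, ev_zero, map_zero']
      rw [map_zsmul]
      obtain ⟨m, rfl | rfl⟩ := r.eq_nat_or_neg
      · rw [natCast_zsmul, natCast_zsmul, h1]
      · rw [neg_smul, neg_smul, natCast_zsmul, natCast_zsmul, ← smul_neg, ← h2, ← smul_neg]
        have h3 : ∀ (m : ℕ) (n : N), T.map (ev (m • n)) x = m • T.map (ev n) x := by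
          intro m n
          induction m with
          | zero => rw [zero_smul, zero_smul, ev_zero, map_zero']
          | succ m ih => rw [succ_nsmul, succ_nsmul, ev_add, T.map_add, ih]
        rw [h3])

theorem tau_tmul (x : T.obj (Z.{w} ℓ)) (n : N) :
    tau T N (x ⊗ₜ n) = T.map (ev n) x := rfl

end

section

variable (T : AddFun.{w, w'}) {ℓ : ℕ} [hℓ : Fact ℓ.Prime]
  {N : Type w} [AddCommGroup N] [Module (ZMod ℓ) N] [Finite N]

omit [Finite N] in
theorem ev_comp_coord (n : N) (f : N →ₗ[ZMod ℓ] ZMod ℓ) :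
    (ev n : Z.{w} ℓ ⟶ _) ≫ AddCommGrpCat.ofHom
      (AddEquiv.ulift.symm.toAddMonoidHom.comp f.toAddMonoidHom) = ev (N := Z.{w} ℓ) (ULift.up (f n)) := by
  refine AddCommGrpCat.hom_ext (AddMonoidHom.ext fun c => ?_)
  apply ULift.down_injective
  exact _root_.map_smul f c.down n

theorem map_ev_ulift (x : T.obj (Z.{w} ℓ)) (c : ZMod ℓ) :
    T.map (ev (N := Z.{w} ℓ) (ULift.up c)) x = (c.val : ℕ) • x := by
  have h1 : ∀ m : ℕ, T.map (ev (N := Z.{w} ℓ) (ULift.up (m : ZMod ℓ))) x = m • x := by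
    intro m
    induction m with
    | zero =>
      rw [Nat.cast_zero]
      change T.map (ev (N := Z.{w} ℓ) 0) x = _
      rw [ev_zero, map_zero', zero_smul]
    | succ m ih =>
      rw [Nat.cast_succ]
      change T.map (ev (N := Z.{w} ℓ) (ULift.up (m : ZMod ℓ) + ULift.up 1)) x = _
      rw [ev_add, T.map_add, ih, succ_nsmul]
      congr 1
      have h2 : ev (N := Z.{w} ℓ) (ULift.up (1 : ZMod ℓ)) = 𝟙 _ := by
        refine AddCommGrpCat.hom_ext (AddMonoidHom.ext fun c => ?_)
        apply ULift.down_injective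
        exact mul_one c.down
      rw [h2, T.map_id]
  have h2 := h1 c.val
  rw [ZMod.natCast_zmod_val] at h2
  exact h2

/-- `T(ℤ/ℓ) ⊗ N ≅ T(N)` -/
theorem tau_bijective : Function.Bijective (tau T (ℓ := ℓ) N) := by
  have hfin : Module.Finite (ZMod ℓ) N := Module.Finite.of_finite
  let b := Module.finBasis (ZMod ℓ) N
  let cm : ∀ i, AddCommGrpCat.of N ⟶ Z.{w} ℓ := fun i => AddCommGrpCat.ofHom
    (AddEquiv.ulift.symm.toAddMonoidHom.comp (b.coord i).toAddMonoidHom)
  let B : T.obj (AddCommGrpCat.of N) → T.obj (Z.{w} ℓ) ⊗[ℤ] N := fun y =>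
    ∑ i, T.map (cm i) y ⊗ₜ[ℤ] b i
  refine Function.bijective_iff_has_inverse.2 ⟨B, fun z => ?_, fun y => ?_⟩
  · induction z using TensorProduct.induction_on with
    | zero =>
      change ∑ i, T.map (cm i) (tau T N 0) ⊗ₜ[ℤ] b i = 0
      simp only [map_zero, TensorProduct.zero_tmul, Finset.sum_const_zero]
    | tmul x n =>
      change ∑ i, T.map (cm i) (tau T N (x ⊗ₜ n)) ⊗ₜ[ℤ] b i = x ⊗ₜ n
      have h1 : ∀ i, T.map (cm i) (tau T N (x ⊗ₜ n)) ⊗ₜ[ℤ] b i = x ⊗ₜ[ℤ] (b.repr n i • b i) := by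
        intro i
        rw [tau_tmul, ← T.map_comp, ev_comp_coord, map_ev_ulift]
        have h2 : (b.repr n i) • b i = (b.repr n i).val • b i := by
          rw [← Nat.cast_smul_eq_nsmul (ZMod ℓ), ZMod.natCast_zmod_val]
        rw [h2, TensorProduct.tmul_smul, TensorProduct.smul_tmul']
        rfl
      rw [Finset.sum_congr rfl fun i _ => h1 i, ← TensorProduct.tmul_sum, b.sum_repr]
    | add x y hx hy =>
      have h3 : ∀ z w, B (z + w) = B z + B w := by
        intro z w
        change ∑ i, T.map (cm i) (z + w) ⊗ₜ[ℤ] b i = ∑ i, T.map (cm i) z ⊗ₜ[ℤ] b i +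
          ∑ i, T.map (cm i) w ⊗ₜ[ℤ] b i
        rw [← Finset.sum_add_distrib]
        refine Finset.sum_congr rfl fun i _ => ?_
        rw [map_add, TensorProduct.add_tmul]
      rw [map_add, h3, hx, hy]
  · change tau T N (∑ i, T.map (cm i) y ⊗ₜ[ℤ] b i) = y
    rw [map_sum]
    have h1 : ∀ i, tau T N (T.map (cm i) y ⊗ₜ[ℤ] b i) = T.map (cm i ≫ ev (b i)) y := by
      intro i
      rw [tau_tmul, T.map_comp]
    rw [Finset.sum_congr rfl fun i _ => h1 i, ← map_sum']
    have h2 : ∑ i, (cm i ≫ ev (b i)) = 𝟙 (AddCommGrpCat.of N) := by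
      refine AddCommGrpCat.hom_ext (AddMonoidHom.ext fun n => ?_)
      have h3 : ∀ s : Finset (Fin (Module.finrank (ZMod ℓ) N)),
          (∑ i ∈ s, (cm i ≫ ev (b i))).hom n = ∑ i ∈ s, b.repr n i • b i := by
        intro s
        classical
        induction s using Finset.induction with
        | empty => rfl
        | insert a s ha ih =>
          rw [Finset.sum_insert ha, Finset.sum_insert ha, ← ih]
          rfl
      rw [h3, b.sum_repr]
      rfl
    rw [h2, T.map_id]

omit [Finite N] in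
/-- naturality of `tau` -/
theorem tau_map (α : ∀ A, T.obj A →+ T.obj A)
    (hα : ∀ (φ : Z.{w} ℓ ⟶ AddCommGrpCat.of N) x, α _ (T.map φ x) = T.map φ (α _ x))
    (b : N →+ N) (z : T.obj (Z.{w} ℓ) ⊗[ℤ] N) :
    tau T (ℓ := ℓ) N (TensorProduct.map (α (Z ℓ)).toIntLinearMap b.toIntLinearMap z) =
      T.map (AddCommGrpCat.ofHom b) (α _ (tau T N z)) := by
  induction z using TensorProduct.induction_on with
  | zero => simp only [map_zero]
  | tmul x n =>
    change T.map (ev (b n)) (α _ x) = T.map (AddCommGrpCat.ofHom b) (α _ (T.map (ev n) x))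
    rw [hα, ← T.map_comp]
    congr 2
    refine AddCommGrpCat.hom_ext (AddMonoidHom.ext fun c => ?_)
    change c.down • b n = b (c.down • n)
    obtain ⟨m, hm⟩ : ∃ m : ℕ, (m : ZMod ℓ) = c.down := ⟨c.down.val, by
      rw [ZMod.natCast_zmod_val]⟩
    rw [← hm, Nat.cast_smul_eq_nsmul, Nat.cast_smul_eq_nsmul, map_nsmul]
  | add x y hx hy => simp only [map_add, hx, hy]

end

section triv

variable {ℓ : ℕ} [hℓ : Fact ℓ.Prime] {Γ : Type v} [Group Γ] {V N : Type w} [AddCommGroup V]
  [AddCommGroup N]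

theorem exists_coord_aux [Module (ZMod ℓ) V] (hV : Nat.card V = ℓ) :
    ∃ (c : V →+ ZMod ℓ) (v₀ : V), c v₀ = 1 ∧ ∀ x, (c x).val • v₀ = x := by
  have hfin : Finite V := Nat.finite_of_card_ne_zero (by rw [hV]; exact hℓ.out.ne_zero)
  have hmf : Module.Finite (ZMod ℓ) V := Module.Finite.of_finite
  have h1 : Nat.card V = Nat.card (ZMod ℓ) ^ Module.finrank (ZMod ℓ) V :=
    Module.natCard_eq_pow_finrank
  have hrank : Module.finrank (ZMod ℓ) V = 1 := by
    rw [hV, Nat.card_zmod] at h1
    have h2 : ℓ ^ 1 = ℓ ^ Module.finrank (ZMod ℓ) V := by rw [pow_one]; exact h1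
    exact (Nat.pow_right_injective hℓ.out.two_le h2).symm
  let c : V ≃ₗ[ZMod ℓ] ZMod ℓ := (Module.nonempty_linearEquiv_of_finrank_eq_one hrank).some.symm
  refine ⟨c.toLinearMap.toAddMonoidHom, c.symm 1, c.apply_symm_apply 1, fun x => ?_⟩
  apply c.injective
  change c ((c x).val • c.symm 1) = c x
  rw [map_nsmul, LinearEquiv.apply_symm_apply, nsmul_eq_mul, ZMod.natCast_zmod_val, mul_one]

theorem exists_coord (hV : Nat.card V = ℓ) :
    ∃ (c : V →+ ZMod ℓ) (v₀ : V), c v₀ = 1 ∧ ∀ x, (c x).val • v₀ = x := by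
  have hV' : ∀ x : V, ℓ • x = 0 := fun x => by
    rw [← hV]
    exact card_nsmul_eq_zero'
  let := AddCommGroup.zmodModule hV'
  exact exists_coord_aux hV

/-- tensor product with a group of order `ℓ` with trivial action -/
theorem exists_tensor_equiv (hN : ∀ x : N, ℓ • x = 0) (hV : Nat.card V = ℓ)
    (a : Γ →* AddMonoid.End V) (ha : ∀ g x, a g x = x) (b : Γ →* AddMonoid.End N) :
    ∃ e : N →+ V ⊗[ℤ] N, Function.Bijective e ∧ ∀ g x, e (b g x) = tensAct a b g (e x) := by
  let := AddCommGroup.zmodModule hN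
  obtain ⟨c, v₀, hc1, hc⟩ := exists_coord hV
  let e : N →+ V ⊗[ℤ] N := (TensorProduct.mk ℤ V N v₀).toAddMonoidHom
  have he : ∀ n, e n = v₀ ⊗ₜ n := fun n => rfl
  let r : V ⊗[ℤ] N →+ N := TensorProduct.liftAddHom
    { toFun := fun x =>
        { toFun := fun n => c x • n
          map_zero' := smul_zero _
          map_add' := fun n n' => smul_add _ _ _ }
      map_zero' := AddMonoidHom.ext fun n => by
        change c 0 • n = 0
        rw [map_zero, zero_smul]
      map_add' := fun x y => AddMonoidHom.ext fun n => by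
        change c (x + y) • n = c x • n + c y • n
        rw [map_add, add_smul] }
    (fun m x n => by
      change c (m • x) • n = c x • (m • n)
      rw [map_zsmul, smul_assoc, smul_comm])
  have hr : ∀ x n, r (x ⊗ₜ n) = c x • n := fun x n => rfl
  refine ⟨e, Function.bijective_iff_has_inverse.2 ⟨r, fun n => ?_, fun z => ?_⟩, fun g x => ?_⟩
  · rw [he, hr, hc1, one_smul]
  · induction z using TensorProduct.induction_on with
    | zero => rw [map_zero, map_zero]
    | tmul x n =>
      rw [hr, he]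
      have h2 : c x • n = (c x).val • n := by
        rw [← Nat.cast_smul_eq_nsmul (ZMod ℓ), ZMod.natCast_zmod_val]
      rw [h2, TensorProduct.tmul_smul, TensorProduct.smul_tmul', hc]
    | add x y hx hy => rw [map_add, map_add, hx, hy]
  · rw [he, he]
    change _ = (a g v₀) ⊗ₜ (b g x)
    rw [ha]

end triv

end Groth.Agent.Sga5.H841.AddTens
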