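import Groth.Agent.Sga5.H841.AddTens

/-!
# Invariants in `T(N)` for an additive functor with a group action
-/

set_option autoImplicit false

universe w v w'

open CategoryTheory
open scoped TensorProduct

namespace Groth.Agent.Sga5.H841.AddTens2

open Iface InvLen _root_.Groth.Agent.Sga5.H841.Count AddTens

variable {ℓ : ℕ} [hℓ : Fact ℓ.Prime] {Γ : Type v} [Group Γ] (T : AddFun.{w, w})
  (α : Γ → ∀ A, T.obj A →+ T.obj A)
  (hα : ∀ (g : Γ) {A B : AddCommGrpCat.{w}} (φ : A ⟶ B) x, α g _ (T.map φ x) = T.map φ (α g _ x))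
  {N : Type w} [AddCommGroup N] [Finite N] (hN : ∀ x : N, ℓ • x = 0)
  (a : Γ →* AddMonoid.End (T.obj (Z.{w} ℓ))) (ha : ∀ g x, a g x = α g _ x)
  (σ : Γ →* AddMonoid.End N) (c : Γ →* AddMonoid.End (T.obj (AddCommGrpCat.of N)))
  (hc : ∀ g x, c g x = T.map (AddCommGrpCat.ofHom (σ g)) (α g _ x))

include hN hα ha hc in
/-- `T(N) = T(ℤ/ℓ) ⊗ N` as modules under the group -/
theorem exists_tau : ∃ e : T.obj (Z.{w} ℓ) ⊗[ℤ] N →+ T.obj (AddCommGrpCat.of N),
    Function.Bijective e ∧ ∀ g x, e (tensAct a σ g x) = c g (e x) := by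
  let := AddCommGroup.zmodModule hN
  refine ⟨tau T (ℓ := ℓ) N, tau_bijective T, fun g x => ?_⟩
  rw [hc]
  have h1 := tau_map T (ℓ := ℓ) (N := N) (α g) (fun φ x => hα g φ x) (σ g) x
  have h2 : a g = α g _ := AddMonoidHom.ext (ha g)
  rw [← h1, ← h2]
  rfl

include hN hα ha hc in
theorem len_inv_tens (S : Set Γ) : len ℓ (inv c S) = len ℓ (inv (tensAct a σ) S) := by
  obtain ⟨e, he, hg⟩ := exists_tau T α hα hN a ha σ c hc
  exact (len_inv_congr (tensAct a σ) c e he hg S).symm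

include hN hα ha hc in
/-- the case of a functor with `T(ℤ/ℓ)` of order `ℓ` and trivial action -/
theorem len_inv_triv (hT : Nat.card (T.obj (Z.{w} ℓ)) = ℓ) (hat : ∀ g x, a g x = x) (S : Set Γ) :
    len ℓ (inv c S) = len ℓ (inv σ S) := by
  rw [len_inv_tens T α hα hN a ha σ c hc]
  obtain ⟨e, he, hg⟩ := exists_tensor_equiv hN hT a hat σ
  exact (len_inv_congr σ (tensAct a σ) e he hg S).symm

end Groth.Agent.Sga5.H841.AddTens2
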