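import Groth.Agent.Sga5.H841.InvLen

/-!
# Lengths of invariants along exact sequences
-/

set_option autoImplicit false

universe w v

namespace Groth.Agent.Sga5.H841.Count

open Iface InvLen

variable {ℓ : ℕ} [hℓ : Fact ℓ.Prime] {Γ : Type v} [Group Γ]

/-- the action on a stable subgroup -/
def subAct {M : Type w} [AddCommGroup M] (ρ : Γ →* AddMonoid.End M) (W : AddSubgroup M)
    (hW : ∀ g, ∀ x ∈ W, ρ g x ∈ W) : Γ →* AddMonoid.End W where
  toFun g := ((ρ g).comp W.subtype).codRestrict W (fun x => hW g x.1 x.2)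
  map_one' := by
    apply AddMonoidHom.ext
    intro x
    apply Subtype.ext
    change ρ 1 x.1 = x.1
    rw [map_one]
    rfl
  map_mul' g g' := by
    apply AddMonoidHom.ext
    intro x
    apply Subtype.ext
    change ρ (g * g') x.1 = ρ g (ρ g' x.1)
    rw [map_mul]
    rfl

theorem subAct_apply {M : Type w} [AddCommGroup M] (ρ : Γ →* AddMonoid.End M) (W : AddSubgroup M)
    (hW : ∀ g, ∀ x ∈ W, ρ g x ∈ W) (g : Γ) (x : W) : (subAct ρ W hW g x : M) = ρ g x := rfl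

omit hℓ in
/-- the invariants in a stable subgroup only depend on the subgroup -/
theorem len_inv_subAct_congr {M : Type w} [AddCommGroup M] (ρ : Γ →* AddMonoid.End M)
    {W W' : AddSubgroup M} (hW : ∀ g, ∀ x ∈ W, ρ g x ∈ W) (hW' : ∀ g, ∀ x ∈ W', ρ g x ∈ W')
    (h : ∀ x, x ∈ W ↔ x ∈ W') (S : Set Γ) :
    len ℓ (inv (subAct ρ W hW) S) = len ℓ (inv (subAct ρ W' hW') S) := by
  obtain rfl : W = W' := SetLike.ext h
  rfl

omit hℓ in
/-- invariants of isomorphic modules -/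
theorem len_inv_congr {M N : Type*} [AddCommGroup M] [AddCommGroup N] (ρ : Γ →* AddMonoid.End M)
    (σ : Γ →* AddMonoid.End N) (e : M →+ N) (he : Function.Bijective e)
    (hc : ∀ g x, e (ρ g x) = σ g (e x)) (S : Set Γ) : len ℓ (inv ρ S) = len ℓ (inv σ S) := by
  refine len_congr (Equiv.ofBijective (fun x : inv ρ S => (⟨e x.1, fun g hg => by
    rw [← hc, x.2 g hg]⟩ : inv σ S)) ⟨?_, ?_⟩)
  · intro x y hxy
    exact Subtype.ext (he.1 (congrArg Subtype.val hxy))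
  · rintro ⟨y, hy⟩
    obtain ⟨x, rfl⟩ := he.2 y
    exact ⟨⟨x, fun g hg => he.1 (by rw [hc, hy g hg])⟩, rfl⟩

variable {M N : Type w} [AddCommGroup M] [AddCommGroup N] (ρ : Γ →* AddMonoid.End M)
  (σ : Γ →* AddMonoid.End N) (f : M →+ N) (hf : ∀ g x, f (ρ g x) = σ g (f x))

include hf in
theorem ker_stable (g : Γ) (x : M) (hx : x ∈ f.ker) : ρ g x ∈ f.ker := by
  rw [AddMonoidHom.mem_ker] at hx ⊢
  rw [hf, hx, map_zero]

include hf in
theorem range_stable (g : Γ) (x : N) (hx : x ∈ f.range) : σ g x ∈ f.range := by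
  obtain ⟨y, rfl⟩ := hx
  exact ⟨ρ g y, hf g y⟩

/-- an equivariant map splits the length of the invariants -/
theorem len_inv_ker_range [Finite M] (n : ℕ) (hn : ∀ x : M, ℓ ^ n • x = 0)
    (H : Subgroup Γ) [Finite H] (hH : ¬ ℓ ∣ Nat.card H) :
    len ℓ (inv ρ (H : Set Γ)) = len ℓ (inv (subAct ρ f.ker (ker_stable ρ σ f hf)) (H : Set Γ)) +
      len ℓ (inv (subAct σ f.range (range_stable ρ σ f hf)) (H : Set Γ)) := by
  refine len_inv_exact (subAct ρ f.ker (ker_stable ρ σ f hf)) ρ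
    (subAct σ f.range (range_stable ρ σ f hf)) n hn f.ker.subtype f.rangeRestrict
    (fun a x => rfl) (fun a x => Subtype.ext (hf a x)) Subtype.val_injective ?_
    f.rangeRestrict_surjective H hH
  intro x
  constructor
  · intro hx
    exact ⟨⟨x, congrArg Subtype.val hx⟩, rfl⟩
  · rintro ⟨y, rfl⟩
    exact Subtype.ext y.2

/-- an injective equivariant map -/
theorem len_inv_range_of_injective (hi : Function.Injective f) (S : Set Γ) :
    len ℓ (inv (subAct σ f.range (range_stable ρ σ f hf)) S) = len ℓ (inv ρ S) :=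
  (len_inv_congr ρ (subAct σ f.range (range_stable ρ σ f hf)) f.rangeRestrict
    ⟨fun x y hxy => hi (congrArg Subtype.val hxy), f.rangeRestrict_surjective⟩
    (fun g x => Subtype.ext (hf g x)) S).symm

/-- a surjective equivariant map -/
theorem len_inv_range_of_surjective (hs : Function.Surjective f) (S : Set Γ) :
    len ℓ (inv (subAct σ f.range (range_stable ρ σ f hf)) S) = len ℓ (inv σ S) :=
  len_inv_congr (subAct σ f.range (range_stable ρ σ f hf)) σ f.range.subtype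
    ⟨Subtype.val_injective, fun y => ⟨⟨y, hs y⟩, rfl⟩⟩ (fun _ _ => rfl) S

/-- the six term sequence `0 → A₀ → B₀ → C₀ → A₁ → B₁ → 0` -/
theorem len_inv_six {A₀ B₀ C₀ A₁ B₁ : Type w} [AddCommGroup A₀] [AddCommGroup B₀]
    [AddCommGroup C₀] [AddCommGroup A₁] [AddCommGroup B₁]
    (a₀ : Γ →* AddMonoid.End A₀) (b₀ : Γ →* AddMonoid.End B₀) (c₀ : Γ →* AddMonoid.End C₀)
    (a₁ : Γ →* AddMonoid.End A₁) (b₁ : Γ →* AddMonoid.End B₁)
    (i₀ : A₀ →+ B₀) (p₀ : B₀ →+ C₀) (δ : C₀ →+ A₁) (i₁ : A₁ →+ B₁)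
    (hi₀ : ∀ g x, i₀ (a₀ g x) = b₀ g (i₀ x)) (hp₀ : ∀ g x, p₀ (b₀ g x) = c₀ g (p₀ x))
    (hδ : ∀ g x, δ (c₀ g x) = a₁ g (δ x)) (hi₁ : ∀ g x, i₁ (a₁ g x) = b₁ g (i₁ x))
    (hinj : Function.Injective i₀) (h1 : Function.Exact i₀ p₀) (h2 : Function.Exact p₀ δ)
    (h3 : Function.Exact δ i₁) (hsurj : Function.Surjective i₁)
    [Finite B₀] [Finite C₀] [Finite A₁] (n : ℕ) (hB : ∀ x : B₀, ℓ ^ n • x = 0)
    (hC : ∀ x : C₀, ℓ ^ n • x = 0) (hA : ∀ x : A₁, ℓ ^ n • x = 0)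
    (H : Subgroup Γ) [Finite H] (hH : ¬ ℓ ∣ Nat.card H) :
    len ℓ (inv a₀ (H : Set Γ)) + len ℓ (inv c₀ (H : Set Γ)) + len ℓ (inv b₁ (H : Set Γ)) =
      len ℓ (inv b₀ (H : Set Γ)) + len ℓ (inv a₁ (H : Set Γ)) := by
  have e1 := len_inv_ker_range (ℓ := ℓ) b₀ c₀ p₀ hp₀ n hB H hH
  have e2 := len_inv_ker_range (ℓ := ℓ) c₀ a₁ δ hδ n hC H hH
  have e3 := len_inv_ker_range (ℓ := ℓ) a₁ b₁ i₁ hi₁ n hA H hH
  rw [len_inv_subAct_congr b₀ _ (range_stable a₀ b₀ i₀ hi₀) (fun x => h1 x),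
    len_inv_range_of_injective a₀ b₀ i₀ hi₀ hinj] at e1
  rw [len_inv_subAct_congr c₀ _ (range_stable b₀ c₀ p₀ hp₀) (fun x => h2 x)] at e2
  rw [len_inv_subAct_congr a₁ _ (range_stable c₀ a₁ δ hδ) (fun x => h3 x),
    len_inv_range_of_surjective a₁ b₁ i₁ hi₁ hsurj] at e3
  omega

/-- finiteness in the six term sequence -/
theorem finite_six {C₀ A₁ B₁ : Type*} [AddCommGroup C₀] [AddCommGroup A₁] [AddCommGroup B₁]
    (δ : C₀ →+ A₁) (i₁ : A₁ →+ B₁) (h3 : Function.Exact δ i₁) [Finite C₀] [Finite B₁] :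
    Finite A₁ := by
  have h1 : Finite i₁.ker := by
    have h4 : (i₁.ker : Set A₁) = Set.range δ := by
      ext x
      exact h3 x
    have h5 : Finite (Set.range δ) := inferInstance
    rw [← h4] at h5
    exact h5
  have h2 : Finite (A₁ ⧸ i₁.ker) :=
    Finite.of_injective (QuotientAddGroup.kerLift i₁) (QuotientAddGroup.kerLift_injective i₁)
  exact Finite.of_equiv _ (AddSubgroup.addGroupEquivQuotientProdAddSubgroup (s := i₁.ker)).symm

/-- the count used for `0 → T → E → D → 0`: the Euler characteristic of the invariants -/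
theorem euler_six {A₀ B₀ C₀ A₁ B₁ A₂ B₂ : Type w} [AddCommGroup A₀] [AddCommGroup B₀]
    [AddCommGroup C₀] [AddCommGroup A₁] [AddCommGroup B₁] [AddCommGroup A₂] [AddCommGroup B₂]
    (a₀ : Γ →* AddMonoid.End A₀) (b₀ : Γ →* AddMonoid.End B₀) (c₀ : Γ →* AddMonoid.End C₀)
    (a₁ : Γ →* AddMonoid.End A₁) (b₁ : Γ →* AddMonoid.End B₁) (a₂ : Γ →* AddMonoid.End A₂)
    (b₂ : Γ →* AddMonoid.End B₂)
    (i₀ : A₀ →+ B₀) (p₀ : B₀ →+ C₀) (δ : C₀ →+ A₁) (i₁ : A₁ →+ B₁) (i₂ : A₂ →+ B₂)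
    (hi₀ : ∀ g x, i₀ (a₀ g x) = b₀ g (i₀ x)) (hp₀ : ∀ g x, p₀ (b₀ g x) = c₀ g (p₀ x))
    (hδ : ∀ g x, δ (c₀ g x) = a₁ g (δ x)) (hi₁ : ∀ g x, i₁ (a₁ g x) = b₁ g (i₁ x))
    (hi₂ : ∀ g x, i₂ (a₂ g x) = b₂ g (i₂ x))
    (hinj : Function.Injective i₀) (h1 : Function.Exact i₀ p₀) (h2 : Function.Exact p₀ δ)
    (h3 : Function.Exact δ i₁) (hsurj : Function.Surjective i₁) (hbij : Function.Bijective i₂)
    [Finite B₀] [Finite C₀] [Finite A₁] (n : ℕ) (hB : ∀ x : B₀, ℓ ^ n • x = 0)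
    (hC : ∀ x : C₀, ℓ ^ n • x = 0) (hA : ∀ x : A₁, ℓ ^ n • x = 0)
    (hΓ : ¬ ℓ ∣ Nat.card Γ) [Finite Γ] :
    (len ℓ (inv a₀ Set.univ) : ℤ) - len ℓ (inv a₁ Set.univ) + len ℓ (inv a₂ Set.univ) =
      len ℓ (inv b₀ Set.univ) - len ℓ (inv b₁ Set.univ) + len ℓ (inv b₂ Set.univ) -
        len ℓ (inv c₀ Set.univ) := by
  have h4 := len_inv_six (ℓ := ℓ) a₀ b₀ c₀ a₁ b₁ i₀ p₀ δ i₁ hi₀ hp₀ hδ hi₁ hinj h1 h2 h3 hsurj n hB
    hC hA ⊤ (by rw [Subgroup.card_top]; exact hΓ)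
  rw [Subgroup.coe_top] at h4
  have h5 := len_inv_congr (ℓ := ℓ) a₂ b₂ i₂ hbij hi₂ Set.univ
  rw [h5]
  have h6 : (len ℓ (inv a₀ Set.univ) : ℤ) + len ℓ (inv c₀ Set.univ) + len ℓ (inv b₁ Set.univ) =
      len ℓ (inv b₀ Set.univ) + len ℓ (inv a₁ Set.univ) := by exact_mod_cast h4
  linear_combination h6

end Groth.Agent.Sga5.H841.Count
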